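import Cfsg.Agent.Lib.InvChar.CosetCert

/-! Derivation certificate Cand07. -/

set_option autoImplicit false
set_option maxRecDepth 100000

set_option Elab.async false

namespace CfsgLib.InvChar.HeRec.Cand07

open CfsgLib.InvChar.Coset

/-- facts -/
noncomputable def facts : Tr := (.leaf 0x450000400004f0000500003f0000600002f0000700001f0000800000f000090000030000000000100000000095000080000810000700007300006000061000050000550000400004100003000033000020000210000100001500000)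

/-- justifications -/
noncomputable def just : Tr := (.leaf 0xf000040012800000800014000380000c0046000003000060000d000020012000000c0001c00030000040046000003000080000b000000012800000c000200001c0001800014000100000c000080000400000000240002800024004100c0008000c0000020001000000)

/-- relators -/
def rels : List (List ℕ) := [[1, 2, 1, 2, 1, 2], [1, 3, 1, 3, 4, 1, 4], [0, 1, 0, 2, 0, 1, 0, 2], [0, 1, 3, 1, 0, 1, 3, 1], [0, 3, 0, 3, 0, 3, 0, 3], [2, 3, 2, 3, 2, 3, 2, 3], [1, 3, 4, 3, 1, 3, 4, 3], [1, 4, 3, 4, 1, 4, 3, 4], [0, 1, 2, 3, 2, 1, 3, 0, 3], [0, 1, 3, 1, 0, 3, 4, 1, 4], [0, 1, 0, 1, 2, 0, 2, 0, 2, 1], [0, 1, 0, 2, 3, 0, 1, 0, 2, 3], [0, 1, 0, 2, 3, 2, 0, 1, 0, 3], [0, 1, 2, 4, 1, 0, 1, 2, 4, 1], [0, 1, 4, 1, 0, 1, 4, 2, 4, 1], [0, 1, 3, 1, 0, 3, 1, 3, 1, 3], [0, 3, 4, 1, 4, 0,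 3, 4, 1, 4], [0, 3, 4, 1, 4, 0, 4, 1, 4, 3], [0, 1, 2, 0, 3, 4, 2, 3, 4, 0, 4], [0, 1, 2, 3, 1, 2, 1, 2, 3, 0, 3], [0, 1, 3, 1, 2, 3, 2, 0, 2, 3, 2], [0, 1, 3, 2, 3, 2, 3, 1, 3, 0, 3], [0, 1, 3, 4, 2, 4, 1, 0, 4, 1, 3], [0, 1, 4, 1, 2, 0, 1, 4, 3, 2, 4], [0, 2, 0, 4, 2, 4, 1, 4, 2, 3, 4], [0, 2, 1, 2, 1, 3, 2, 1, 3, 0, 3], [0, 1, 4, 2, 4, 1, 0, 3, 1, 3, 4], [0, 3, 1, 3, 1, 3, 0, 3, 4, 1, 4], [1, 2, 1, 2, 4, 1, 3, 1, 3, 4, 2], [1, 3, 4, 1, 3, 4, 1, 4, 3, 4, 3], [1, 2, 1, 2, 3, 1, 4, 1, 4, 3, 2], [1, 2, 1, 2, 3, 1, 3, 4, 1, 4, 2], [0, 1, 0, 1, 2, 1, 0, 2, 0, 1, 2, 1], [0, 1, 0, 1, 4, 0, 2, 3, 1, 4, 2, 4], [0, 1, 0, 1, 4, 2, 0, 3, 4, 0, 4, 3], [0, 1, 0, 2, 0, 3, 1, 0, 1, 3, 1, 2], [0, 1, 0, 2, 4, 0, 2, 1, 3, 2, 3, 4], [0, 1, 0, 2, 4, 3, 2, 3, 1, 2, 0, 4], [0, 1, 0, 3, 2, 3, 0, 1,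 0, 3, 2, 3], [0, 1, 0, 3, 0, 1, 0, 3, 2, 3, 2, 3], [0, 1, 2, 0, 1, 2, 0, 1, 2, 0, 1, 2], [0, 1, 2, 0, 3, 1, 4, 2, 4, 0, 2, 4], [0, 1, 2, 0, 4, 2, 1, 3, 2, 0, 4, 2], [0, 1, 2, 1, 0, 1, 4, 2, 4, 2, 4, 1], [0, 1, 2, 1, 0, 2, 1, 4, 2, 4, 2, 4], [0, 1, 2, 3, 2, 3, 1, 4, 1, 4, 0, 3], [0, 1, 2, 3, 2, 3, 4, 1, 4, 1, 0, 3], [0, 1, 2, 3, 2, 4, 1, 4, 3, 1, 0, 3], [0, 1, 2, 0, 2, 0, 4, 1, 0, 1, 2, 4], [0, 1, 2, 4, 1, 3, 2, 4, 0, 4, 2, 3], [0, 1, 2, 4, 3, 1, 0, 1, 3, 2, 4, 1], [0, 1, 2, 0, 2, 0, 2, 3, 1, 0, 1, 3], [0, 1, 3, 0, 2, 3, 2, 0, 3, 1, 0, 3], [0, 1, 3, 4, 2, 0, 2, 4, 3, 0, 3, 2], [0, 1, 3, 4, 2, 4, 3, 1, 0, 3, 4, 3], [0, 1, 4, 0, 3, 4, 0, 4, 3, 0, 4, 1], [0, 1, 4, 1, 2, 0, 4, 1, 3, 1, 2, 4], [0, 1, 4, 2, 1, 4, 1, 3, 0, 3, 1, 4], [0, 1, 2, 4, 1, 0, 2, 1, 2, 1, 4, 1], [0, 1, 4, 2, 4,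 2, 4, 1, 0, 2, 1, 2], [5, 3, 1, 2, 1, 3, 4, 2, 4, 5, 1, 0, 3, 1, 2, 0, 3, 0], [5, 4, 0, 1, 2, 4, 1, 4, 5, 3, 4, 0, 3, 0, 4, 1, 3], [5, 2, 4, 0, 2, 4, 0, 2, 0, 5, 4, 0, 3, 1, 4, 2], [5, 0, 2, 1, 0, 3, 1, 5, 2, 0, 2, 3, 1, 0], [1, 2, 4, 3, 2, 4, 3, 1, 5, 1, 2, 4, 3, 2, 4, 3, 1, 5, 1, 2, 4, 3, 2, 4, 3, 1, 5], [1, 3, 1, 5, 1, 3, 1, 5, 1, 3, 1, 5], [3, 0, 3, 2, 5, 3, 0, 3, 2, 5, 3, 0, 3, 2, 5], [2, 1, 0, 1, 4, 5, 2, 1, 0, 1, 4, 5, 2, 1, 0, 1, 4, 5], [], [0, 0], [1, 1], [2, 2], [3, 3], [4, 4], [5, 5]]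

/-- the derived word -/
def word : List ℕ := [1, 3, 1, 5, 1, 3, 1, 5, 1, 3, 1, 5]

/-- certificate -/
noncomputable def cert : Cert := ⟨6, 17, 9, facts, just, rels, [[0], [1], [2], [3], [4]]⟩

theorem goal_ok : cert.chkGoal 17 12 0x100002000030001000003000020000100000000090000a00009 word = true := by decide +kernel

theorem chk_facts0 : cert.chkBlocks 1 0 = true := by decide +kernel

theorem facts_ok : ∀ j < 1, cert.chkRun 128 (j * 128) (cert.just.get j) = true := by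
  intro j hj
  rcases Nat.lt_or_ge j 1 with h | h
  · obtain ⟨i, rfl⟩ : ∃ i, j = 0 + i := ⟨j - 0, by omega⟩
    exact chkBlocks_get (D := cert) 1 0 chk_facts0 i (by omega)
  omega

theorem sound {K : Type*} [Group K] (s : ℕ → K) (hs : ∀ x, s x * s x = 1) (H : Subgroup K)
    (hR : ∀ r ∈ rels, wprod s r = 1) (hS : ∀ x < 5, s x ∈ H) : wprod s word ∈ H := by
  have hsub : ∀ r ∈ cert.subs, wprod s r ∈ H := by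
    intro r hr
    have hr' : r ∈ (List.range 5).map fun x => [x] := hr
    obtain ⟨x, hx, rfl⟩ := List.mem_map.1 hr'
    simpa [wprod] using hS x (List.mem_range.1 hx)
  exact mem_of_goal hs (fun r hr => holds_of_blocks (D := cert) hs hR hsub 1 (by decide +kernel) facts_ok r hr) goal_ok

end CfsgLib.InvChar.HeRec.Cand07
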