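import Cfsg.Agent.Lib.InvChar.CosetCert

/-! Derivation certificate Cand15. -/

set_option autoImplicit false
set_option maxRecDepth 100000

set_option Elab.async false

namespace CfsgLib.InvChar.HeRec.Cand15

open CfsgLib.InvChar.Coset

/-- facts -/
noncomputable def facts : Tr := (.leaf 0x600000100001f0000700007f0000100006f0000e00005f0000d0000100000e00000400000000003000000000020000000000100000000000000000000e20000d0000d00000c0000c40000b0000b20000a0000a000009000094000080000820000100007000006000062000050000510000400004000003000033000020000210000100001500000)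

/-- justifications -/
noncomputable def just : Tr := (.leaf 0x5c00018004500000200016001100000040004c000540001800450000030000d00014000050011c00000c000340004c00000000380003c000440004000038000400000000004000080000c00010033f00300b0000d0000c0000b0000a0000900008000070000000010000120000f000110000e0001200000020f802001e00040000008000c0000020002000000800040000020000000000)

/-- relators -/
def rels : List (List ℕ) := [[1, 2, 1, 2, 1, 2], [1, 3, 1, 3, 4, 1, 4], [0, 1, 0, 2, 0, 1, 0, 2], [0, 1, 3, 1, 0, 1, 3, 1], [0, 3, 0, 3, 0, 3, 0, 3], [2, 3, 2, 3, 2, 3, 2, 3], [1, 3, 4, 3, 1, 3, 4, 3], [1, 4, 3, 4, 1, 4, 3, 4], [0, 1, 2, 3, 2, 1, 3, 0, 3], [0, 1, 3, 1, 0, 3, 4, 1, 4], [0, 1, 0, 1, 2, 0, 2, 0, 2, 1], [0, 1, 0, 2, 3, 0, 1, 0, 2, 3], [0, 1, 0, 2, 3, 2, 0, 1, 0, 3], [0, 1, 2, 4, 1, 0, 1, 2, 4, 1], [0,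 1, 4, 1, 0, 1, 4, 2, 4, 1], [0, 1, 3, 1, 0, 3, 1, 3, 1, 3], [0, 3, 4, 1, 4, 0, 3, 4, 1, 4], [0, 3, 4, 1, 4, 0, 4, 1, 4, 3], [0, 1, 2, 0, 3, 4, 2, 3, 4, 0, 4], [0, 1, 2, 3, 1, 2, 1, 2, 3, 0, 3], [0, 1, 3, 1, 2, 3, 2, 0, 2, 3, 2], [0, 1, 3, 2, 3, 2, 3, 1, 3, 0, 3], [0, 1, 3, 4, 2, 4, 1, 0, 4, 1, 3], [0, 1, 4, 1, 2, 0, 1, 4, 3, 2, 4], [0, 2, 0, 4, 2, 4, 1, 4, 2, 3, 4], [0, 2, 1, 2, 1, 3, 2, 1, 3, 0, 3], [0, 1, 4, 2, 4, 1, 0, 3, 1, 3, 4], [0, 3, 1, 3, 1, 3, 0, 3, 4, 1, 4], [1, 2, 1, 2, 4, 1, 3, 1, 3, 4, 2], [1, 3, 4, 1, 3, 4, 1, 4, 3, 4, 3], [1, 2, 1, 2, 3, 1, 4, 1, 4, 3, 2], [1, 2, 1, 2, 3, 1, 3, 4, 1, 4, 2], [0, 1, 0, 1, 2, 1, 0, 2, 0, 1, 2, 1], [0, 1, 0, 1, 4, 0, 2, 3, 1, 4, 2, 4], [0, 1, 0, 1, 4, 2, 0, 3, 4, 0, 4, 3], [0, 1, 0, 2, 0, 3, 1, 0, 1, 3, 1, 2], [0, 1, 0, 2, 4, 0, 2, 1, 3, 2, 3,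 4], [0, 1, 0, 2, 4, 3, 2, 3, 1, 2, 0, 4], [0, 1, 0, 3, 2, 3, 0, 1, 0, 3, 2, 3], [0, 1, 0, 3, 0, 1, 0, 3, 2, 3, 2, 3], [0, 1, 2, 0, 1, 2, 0, 1, 2, 0, 1, 2], [0, 1, 2, 0, 3, 1, 4, 2, 4, 0, 2, 4], [0, 1, 2, 0, 4, 2, 1, 3, 2, 0, 4, 2], [0, 1, 2, 1, 0, 1, 4, 2, 4, 2, 4, 1], [0, 1, 2, 1, 0, 2, 1, 4, 2, 4, 2, 4], [0, 1, 2, 3, 2, 3, 1, 4, 1, 4, 0, 3], [0, 1, 2, 3, 2, 3, 4, 1, 4, 1, 0, 3], [0, 1, 2, 3, 2, 4, 1, 4, 3, 1, 0, 3], [0, 1, 2, 0, 2, 0, 4, 1, 0, 1, 2, 4], [0, 1, 2, 4, 1, 3, 2, 4, 0, 4, 2, 3], [0, 1, 2, 4, 3, 1, 0, 1, 3, 2, 4, 1], [0, 1, 2, 0, 2, 0, 2, 3, 1, 0, 1, 3], [0, 1, 3, 0, 2, 3, 2, 0, 3, 1, 0, 3], [0, 1, 3, 4, 2, 0, 2, 4, 3, 0, 3, 2], [0, 1, 3, 4, 2, 4, 3, 1, 0, 3, 4, 3], [0, 1, 4, 0, 3, 4, 0, 4, 3, 0, 4, 1], [0, 1, 4, 1, 2, 0, 4, 1, 3, 1, 2, 4], [0, 1, 4, 2, 1, 4, 1, 3, 0, 3, 1, 4],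 [0, 1, 2, 4, 1, 0, 2, 1, 2, 1, 4, 1], [0, 1, 4, 2, 4, 2, 4, 1, 0, 2, 1, 2], [5, 3, 1, 2, 1, 3, 4, 2, 4, 5, 1, 0, 3, 1, 2, 0, 3, 0], [5, 4, 0, 1, 2, 4, 1, 4, 5, 3, 4, 0, 3, 0, 4, 1, 3], [5, 2, 4, 0, 2, 4, 0, 2, 0, 5, 4, 0, 3, 1, 4, 2], [5, 0, 2, 1, 0, 3, 1, 5, 2, 0, 2, 3, 1, 0], [1, 2, 4, 3, 2, 4, 3, 1, 5, 1, 2, 4, 3, 2, 4, 3, 1, 5, 1, 2, 4, 3, 2, 4, 3, 1, 5], [1, 3, 1, 5, 1, 3, 1, 5, 1, 3, 1, 5], [3, 0, 3, 2, 5, 3, 0, 3, 2, 5, 3, 0, 3, 2, 5], [2, 1, 0, 1, 4, 5, 2, 1, 0, 1, 4, 5, 2, 1, 0, 1, 4, 5], [], [0, 0], [1, 1], [2, 2], [3, 3], [4, 4], [5, 5]]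

/-- the derived word -/
def word : List ℕ := [0, 1, 2, 0, 5, 1, 3, 0, 1, 2, 0, 5, 1, 3]

/-- certificate -/
noncomputable def cert : Cert := ⟨6, 25, 14, facts, just, rels, [[0], [1], [2], [3], [4]]⟩

theorem goal_ok : cert.chkGoal 25 14 0x110000f00000000180000500004000030000200001000000000e000100000f0000e word = true := by decide +kernel

theorem chk_facts0 : cert.chkBlocks 1 0 = true := by decide +kernel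

theorem facts_ok : ∀ j < 1, cert.chkRun 128 (j * 128) (cert.just.get j) = true := by
  intro j hj
  rcases Nat.lt_or_ge j 1 with h | h
  · obtain ⟨i, rfl⟩ : ∃ i, j = 0 + i := ⟨j - 0, by omega⟩
    exact chkBlocks_get (D := cert) 1 0 chk_facts0 i (by omega)
  omega

theorem sound {K : Type*} [Group K] (s : ℕ → K) (hs : ∀ x, s x * s x = 1) (H : Subgroup K)
    (hR : ∀ r ∈ rels, wprod s r = 1) (hS : ∀ x < 5, s x ∈ H) : wprod s word ∈ H := by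
  have hsub : ∀ r ∈ cert.subs, wprod s r ∈ H := by
    intro r hr
    have hr' : r ∈ (List.range 5).map fun x => [x] := hr
    obtain ⟨x, hx, rfl⟩ := List.mem_map.1 hr'
    simpa [wprod] using hS x (List.mem_range.1 hx)
  exact mem_of_goal hs (fun r hr => holds_of_blocks (D := cert) hs hR hsub 1 (by decide +kernel) facts_ok r hr) goal_ok

end CfsgLib.InvChar.HeRec.Cand15
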